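import Groth.Agent.Sga67.LocBasisOps
import Groth.Prelude.Def_FlatMod2

/-!
# Sections of locally free modules on integral schemes; homotheties

* `resO_injective`, `res_injective`: restriction of sections to a nonempty open is injective.
* `toSheaf_map_eq_iff`: a morphism is multiplication by a global function iff it is so on sections.
-/

set_option autoImplicit false
universe u

open CategoryTheory CategoryTheory.Limits AlgebraicGeometry Opposite TopologicalSpace
open Groth.Agent.Sga67.Sec Groth.Agent.Sga67.LocBasis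

namespace K698.Basic

variable {X : Scheme.{u}}

theorem resO_injective [IsIntegral X] {U V : X.Opens} (h : V ≤ U) (hV : (V : Set X).Nonempty) :
    Function.Injective (resO X h) := by
  have : Nonempty V := hV.to_subtype
  exact map_injective_of_isIntegral X (homOfLE h)

/-- Restriction of sections of a finite locally free module to a nonempty open is injective. -/
theorem res_injective [IsIntegral X] {M : X.Modules} (hM : FlatMod.IsFinLocFree M) {U V : X.Opens}
    (h : V ≤ U) (hV : (V : Set X).Nonempty) : Function.Injective (res M h) := by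
  rw [injective_iff_map_eq_zero]
  intro s hs
  apply eq_of_locally
  intro x hx
  obtain ⟨W, n, hxW, b, hb⟩ := (isFinLocFree_iff _).mp hM x
  refine ⟨W ⊓ U, inf_le_right, ⟨hxW, hx⟩, ?_⟩
  obtain ⟨a, ha⟩ := (hb (W ⊓ U) inf_le_left).2 (res M inf_le_right s)
  have hne : ((V ⊓ (W ⊓ U) : X.Opens) : Set X).Nonempty :=
    nonempty_preirreducible_inter V.2 (W ⊓ U).2 hV ⟨x, hxW, hx⟩
  have h1 : res M (inf_le_right : V ⊓ (W ⊓ U) ≤ W ⊓ U) (comb b inf_le_left a) = 0 := by
    rw [ha, res_res]
    have := congrArg (res M (inf_le_left : V ⊓ (W ⊓ U) ≤ V)) hs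
    rwa [res_res, map_zero] at this
  rw [res_comb] at h1
  have h2 := (hb _ ((inf_le_right : V ⊓ (W ⊓ U) ≤ W ⊓ U).trans inf_le_left)).1
    (h1.trans (map_zero _).symm)
  have h3 : a = 0 := by
    funext i
    apply resO_injective (inf_le_right : V ⊓ (W ⊓ U) ≤ W ⊓ U) hne
    rw [Pi.zero_apply, map_zero]
    exact congrFun h2 i
  rw [← ha, h3, map_zero, map_zero]

theorem isFinLocFree_of_rank {n : ℕ} {M : X.Modules} (hM : FlatMod.IsFinLocFreeOfRank n M) :
    FlatMod.IsFinLocFree M := fun x => by
  obtain ⟨U, hx, e⟩ := hM x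
  exact ⟨U, n, hx, e⟩

/-- Local bases of a module of rank `n`. -/
theorem exists_basis {n : ℕ} {M : X.Modules} (hM : FlatMod.IsFinLocFreeOfRank n M) {x : X} {U : X.Opens}
    (hx : x ∈ U) : ∃ (V : X.Opens) (_ : V ≤ U) (_ : x ∈ V) (b : Fin n → Sec M V), IsLocBasis b := by
  obtain ⟨W, hxW, e⟩ := hM x
  obtain ⟨b, hb⟩ := nonempty_restrict_iso_iff.mp e
  exact ⟨W ⊓ U, inf_le_right, ⟨hxW, hx⟩, _, hb.restrict inf_le_left⟩

/-- A morphism which vanishes on a nonempty open (with values in a locally free module) vanishes. -/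
theorem eq_zero_of_appS [IsIntegral X] {M N : X.Modules} (hN : FlatMod.IsFinLocFree N) (f : M ⟶ N)
    {V : X.Opens} (hV : (V : Set X).Nonempty) (h : ∀ (V' : X.Opens), V' ≤ V → ∀ s : Sec M V', appS f V' s = 0) :
    f = 0 := by
  apply hom_ext
  intro U s
  rw [appS_zero]
  apply eq_of_locally
  intro x hx
  refine ⟨U, le_rfl, hx, ?_⟩
  rw [res_self, map_zero]
  have hU : (U : Set X).Nonempty := ⟨x, hx⟩
  apply res_injective hN (inf_le_left : U ⊓ V ≤ U) (nonempty_preirreducible_inter U.2 V.2 hU hV)
  rw [← appS_res, map_zero]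
  exact h _ inf_le_right _

/-- Global functions, with the two spellings of the type. -/
def toGam (X : Scheme.{u}) : Coh.Γtop X →+* Γ(X, ⊤) := RingHom.id _

/-- Multiplication by the restriction of a global function. -/
theorem appS_of_toSheaf_map_eq {M : X.Modules} {φ : M ⟶ M} {r : Coh.Γtop X}
    (h : (SheafOfModules.toSheaf X.ringCatSheaf).map φ = Coh.smulAb M r) (U : X.Opens) (s : Sec M U) :
    appS φ U s = (resO X (le_top : U ≤ ⊤) (toGam X r)) • s := by
  have := congrArg (fun ψ : Coh.toAb M ⟶ Coh.toAb M => ψ.hom.app (op U) s) h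
  exact this

theorem toSheaf_map_eq {M : X.Modules} {φ : M ⟶ M} {r : Coh.Γtop X}
    (h : ∀ (U : X.Opens) (s : Sec M U), appS φ U s = (resO X (le_top : U ≤ ⊤) (toGam X r)) • s) :
    (SheafOfModules.toSheaf X.ringCatSheaf).map φ = Coh.smulAb M r := by
  ext U s
  exact h U.unop s

end K698.Basic
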