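import Groth.Agent.VBPn.K698.Homoth

/-!
# Endomorphisms of rank-two bundles without sections in the normalised twist are homotheties
-/

set_option autoImplicit false
universe u

open CategoryTheory CategoryTheory.Limits AlgebraicGeometry Opposite TopologicalSpace TopCat
open Groth.Agent Groth.Agent.Sga67.Sec Groth.Agent.Sga67.LocBasis K699.TwHom
open Groth.Agent.VarietyB.TwistMul K698.Val K698.ThmA K698.Wedge K698.Pl

namespace K698.Homoth

variable {n : ℕ} {k : Type u} [Field k]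

theorem X_zero_notMem (hn : n = 0) (x : Pt n k) :
    (MvPolynomial.X 0 : MvPolynomial (Fin (n + 1)) k) ∉ x.asHomogeneousIdeal := by
  subst hn
  obtain ⟨f, U, hxU, hU⟩ := exists_chart x
  intro hx
  apply hU x hxU
  obtain ⟨c, hc⟩ : ∃ c : MvPolynomial (Fin (0 + 1)) k, f.1 = c * MvPolynomial.X 0 := by
    have h1 : (MvPolynomial.X 0 : MvPolynomial (Fin (0 + 1)) k) ∣ f.1 := by
      rw [MvPolynomial.X_dvd_iff_modMonomial_eq_zero]
      ext s
      rw [MvPolynomial.coeff_zero]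
      by_cases hs : 1 ≤ s 0
      · exact MvPolynomial.coeff_modMonomial_of_le _ (by
          intro i
          obtain rfl : i = 0 := Subsingleton.elim (α := Fin 1) i 0
          simpa using hs)
      · rw [MvPolynomial.coeff_modMonomial_of_not_le _ (by
          intro h
          apply hs
          simpa using h 0)]
        by_contra hne
        have h2 : f.1.IsHomogeneous 1 := f.2
        have h3 := h2 hne
        have h4 : s = 0 := by
          ext i
          obtain rfl : i = 0 := Subsingleton.elim (α := Fin 1) i 0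
          simpa using hs
        rw [h4] at h3
        simp at h3
    obtain ⟨c, hc⟩ := h1
    exact ⟨c, by rw [hc, mul_comm]⟩
  rw [hc]
  exact x.asHomogeneousIdeal.toIdeal.mul_mem_left c hx

theorem isIso_X_pow (hn : n = 0) {e : ℕ} {b b' : ℤ} (h : b + e = b') :
    IsIso (mulMap (⟨_, X_pow_mem 0 e⟩ : gr n k e) h) := by
  have hx : ∀ x : Pt n k, (MvPolynomial.X 0 : MvPolynomial (Fin (n + 1)) k) ^ e ∉ x.asHomogeneousIdeal := by
    intro x hx
    exact X_zero_notMem hn x (x.isPrime.mem_of_pow_mem e hx)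
  refine isIso_of_bijective _ fun x U hxU => ⟨U, le_rfl, hxU, ?_⟩
  exact mulMap_app_bijective _ h U (fun x _ => hx x)

/-- Endomorphisms are homotheties. -/
theorem main [IsAlgClosed k] {E : (PP n k).Modules} (hE : FlatMod.IsFinLocFreeOfRank 2 E) {c k₀ : ℤ}
    {f : CohB1.tensorMod E E ⟶ OO n k c} (hf : IsWedge f)
    (hk₀ : c + 2 * k₀ = 0 ∨ c + 2 * k₀ = -1) (h0 : ∀ v : OO n k (-k₀) ⟶ E, v = 0) (φ : E ⟶ E) :
    ∃ c' : k, φ = Scal.scal E (kΓ c') := by
  obtain ⟨m, m', D, N, hB, hc, ⟨P⟩⟩ := Simple.exists_pres_ge hE hf (-k₀)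
  have hE0 : 𝟙 E ≠ 0 := by
    intro h1
    obtain ⟨x⟩ := nonempty_Pt (n := n) (k := k)
    obtain ⟨a, b, hab⟩ := P.nz x
    have hq : mulMap (P.q a b) P.hm = 0 := by
      rw [← P.sw, ← Category.comp_id (P.σ b), h1, comp_zero, zero_comp]
    apply hab
    by_contra hne
    refine mulMap_ne_zero (m := m) P.hm (a := P.q a b) ?_ hq
    intro h2
    apply hab
    rw [h2]
    exact x.asHomogeneousIdeal.toIdeal.zero_mem
  obtain ⟨c', χ, hχ, hψ⟩ := exists_eigen P φ hE0
  refine ⟨c', ?_⟩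
  rw [← sub_eq_zero]
  by_contra hne
  obtain ⟨i, hi⟩ : ∃ i, P.σ i ≫ χ ≠ 0 := by
    by_contra hcon
    push Not at hcon
    exact hχ (P.epi _ _ hcon)
  have hkey : ∀ (a : ℤ) (v : OO n k a ⟶ E), v ≠ 0 → a < -k₀ := by
    intro a v hv
    by_contra hlt
    push Not at hlt
    obtain ⟨e, he⟩ : ∃ e : ℕ, -k₀ + e = a := ⟨(a + k₀).toNat, by omega⟩
    refine P.mulMap_comp_ne_zero (⟨_, X_pow_mem 0 e⟩ : gr n k e) ?_ he v hv (h0 _)
    intro h
    exact pow_ne_zero e (MvPolynomial.X_ne_zero (R := k) (0 : Fin (n + 1))) (congrArg Subtype.val h)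
  rcases Nat.eq_zero_or_pos n with hn | hn
  · obtain ⟨e, he⟩ : ∃ e : ℕ, m + e = max m (-k₀) := ⟨(max m (-k₀) - m).toNat, by
      have := le_max_left m (-k₀)
      omega⟩
    have := isIso_X_pow (k := k) hn he
    refine absurd (hkey _ (inv (mulMap (⟨_, X_pow_mem 0 e⟩ : gr n k e) he) ≫ P.σ i ≫ χ) ?_)
      (not_lt.mpr (le_max_right m (-k₀)))
    intro h
    apply hi
    rw [← cancel_epi (inv (mulMap (⟨_, X_pow_mem 0 e⟩ : gr n k e) he)), h, comp_zero]
  · obtain ⟨a₁, a₂, v₁, v₂, hv₁, hv₂, ha⟩ := exists_two P hn (φ - Scal.scal E (kΓ c')) hne (P.σ i ≫ χ) hi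
      (by rw [Category.assoc, hψ, comp_zero])
    have h1 := hkey _ v₁ hv₁
    have h2 := hkey _ v₂ hv₂
    omega

end K698.Homoth
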