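import Groth.Agent.VBPn.K697.ExtTw
import Groth.Agent.VBPn.K698.Basic

/-!
# `H^0(P^n, M(-a)) = 0` iff there are no nonzero morphisms `O(a) ⟶ M`
-/

set_option autoImplicit false
universe u

open CategoryTheory CategoryTheory.Limits AlgebraicGeometry Abelian

namespace K698.H0

theorem scalar_cases {X : Scheme.{u}} {k : Type u} [Field k] (f : X ⟶ Spec (CommRingCat.of k)) (c : k) :
    K698.Basic.toGam X (Coh.toGlobal f c) = 0 ∨ IsUnit (K698.Basic.toGam X (Coh.toGlobal f c)) := by
  rcases eq_or_ne c 0 with rfl | h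
  · exact Or.inl (by rw [map_zero, map_zero])
  · exact Or.inr (((isUnit_iff_ne_zero.mpr h).map _).map _)

variable (n : ℕ) (A : Type u) [CommRing A]

theorem hh0_iff (a : ℤ) (M : (CohB1.ProjSpace n A).Modules) :
    Subsingleton (Coh.HH (CohB1.ProjSpace n A) (CohB1.tensorMod M (Twist.twistProjSpace n A (-a))) 0) ↔
      ∀ v : Twist.twistProjSpace n A a ⟶ M, v = 0 := by
  have := K697.ExtTw.hasExt (CohB1.ProjSpace n A)
  obtain ⟨e⟩ := K697.ExtTw.exists_extO n A a M 0
  rw [← e.toEquiv.subsingleton_congr]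
  have h1 := Ext.mk₀_bijective (Twist.twistProjSpace n A a) M
  constructor
  · intro h v
    exact h1.1 (Subsingleton.elim _ _)
  · intro h
    refine ⟨fun x y => ?_⟩
    obtain ⟨u, rfl⟩ := h1.2 x
    obtain ⟨v, rfl⟩ := h1.2 y
    rw [h u, h v]

theorem hh0_iff' (j : ℤ) (M : (CohB1.ProjSpace n A).Modules) :
    Subsingleton (Coh.HH (CohB1.ProjSpace n A) (CohB1.tensorMod M (Twist.twistProjSpace n A j)) 0) ↔
      ∀ v : Twist.twistProjSpace n A (-j) ⟶ M, v = 0 := by
  have := hh0_iff n A (-j) M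
  rwa [neg_neg] at this

end K698.H0
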