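import Groth.Agent.VBPn.K698.PlExist
import Groth.Agent.VBPn.K698.H0

/-!
# Rank-two bundles: sections of the normalised twist give nilpotent endomorphisms
-/

set_option autoImplicit false
universe u

open CategoryTheory CategoryTheory.Limits AlgebraicGeometry Opposite TopologicalSpace TopCat
open Groth.Agent Groth.Agent.Sga67.Sec Groth.Agent.Sga67.LocBasis K699.TwHom
open Groth.Agent.VarietyB.TwistMul K698.Val K698.ThmA K698.Wedge K698.Pl

namespace K698.Simple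

variable {n : ℕ} {k : Type u} [Field k] {E : (PP n k).Modules} {c : ℤ}
  {f : CohB1.tensorMod E E ⟶ OO n k c}

/-- A Plücker presentation with `m'` as large as wanted. -/
theorem exists_pres_ge (hE : FlatMod.IsFinLocFreeOfRank 2 E) (hf : IsWedge f) (B : ℤ) :
    ∃ (m m' : ℤ) (D N : ℕ), B ≤ m' ∧ m + m' = c ∧ Nonempty (Pres E (Fin N) m m' D) := by
  obtain ⟨m₀, hm₀⟩ := exists_pres hE hf
  obtain ⟨D, hD⟩ : ∃ D : ℕ, min (min m₀ (c - B)) (-|c|) + D = c - min (min m₀ (c - B)) (-|c|) := by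
    refine ⟨(c - 2 * min (min m₀ (c - B)) (-|c|)).toNat, ?_⟩
    have h1 : min (min m₀ (c - B)) (-|c|) ≤ -|c| := min_le_right _ _
    have h2 := neg_abs_le c
    have h3 := abs_nonneg c
    omega
  obtain ⟨N, hN⟩ := hm₀ (min (min m₀ (c - B)) (-|c|)) (c - min (min m₀ (c - B)) (-|c|)) D
    ((min_le_left _ _).trans (min_le_left _ _)) (by ring) hD
  refine ⟨_, _, D, N, ?_, by ring, hN⟩
  have h1 : min (min m₀ (c - B)) (-|c|) ≤ c - B := (min_le_left _ _).trans (min_le_right _ _)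
  omega

/-- A nonzero morphism `O(b) ⟶ E` is a monomorphism. -/
theorem mono_of_ne_zero (hE : FlatMod.IsFinLocFreeOfRank 2 E) (hf : IsWedge f) {b : ℤ}
    (v : OO n k b ⟶ E) (hv : v ≠ 0) : Mono v := by
  obtain ⟨m, m', D, N, hB, -, ⟨P⟩⟩ := exists_pres_ge hE hf b
  obtain ⟨e, he⟩ : ∃ e : ℕ, b + e = m' := ⟨(m' - b).toNat, by omega⟩
  obtain ⟨s, hs, -⟩ := P.exists_forms he v
  obtain ⟨a, ha⟩ : ∃ a, s a ≠ 0 := by
    by_contra hcon
    push Not at hcon
    exact P.forms_ne_zero hs hv (_root_.funext hcon)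
  have h1 : Mono (v ≫ P.w a) := by
    rw [hs a]
    exact mono_mulMap' _ ha he
  exact mono_of_mono v (P.w a)

theorem wdg_self {b c' : ℤ} (hf : IsWedge f) (v : OO n k b ⟶ E) (g : E ⟶ OO n k c')
    (hg : ∀ (U : (PP n k).Opens) (t : Sec (OO n k b) U) (e : Sec E U) (x : Pt n k) (hx : x ∈ U),
      val (pairS f U (appS v U t) e) x hx = val t x hx * val (appS g U e) x hx) : v ≫ g = 0 := by
  apply Sga67.Sec.hom_ext
  intro U t
  apply val_ext
  intro x hx
  obtain ⟨l, W, hxW, hW⟩ := exists_chart x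
  have hx' : x ∈ U ⊓ W := ⟨hx, hxW⟩
  let t0 := pw l b (U ⊓ W) (fun y hy => hW y hy.2)
  have hu := isUnit_val_pw l b (fun y (hy : y ∈ U ⊓ W) => hW y hy.2) x hx'
  obtain ⟨r, hr⟩ := isGen_pw l b (fun y (hy : y ∈ U ⊓ W) => hW y hy.2) (res _ inf_le_left t)
  have h1 := hg (U ⊓ W) t0 (appS v _ (res _ inf_le_left t)) x hx'
  rw [← hr, map_smul, map_smul, hf.alt, smul_zero, val_zero] at h1
  apply hu.mul_left_cancel
  rw [appS_zero, val_zero, mul_zero]
  have h2 : val (appS (v ≫ g) U t) x hx = val (appS g _ (appS v (U ⊓ W) (res _ inf_le_left t))) x hx' := by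
    rw [appS_res, appS_res]; rfl
  rw [h2, ← hr, map_smul]
  exact h1.symm

theorem wdg_ne_zero {b c' : ℤ} (hE : FlatMod.IsFinLocFreeOfRank 2 E) (hf : IsWedge f) (v : OO n k b ⟶ E)
    (hv : v ≠ 0) (g : E ⟶ OO n k c')
    (hg : ∀ (U : (PP n k).Opens) (t : Sec (OO n k b) U) (e : Sec E U) (x : Pt n k) (hx : x ∈ U),
      val (pairS f U (appS v U t) e) x hx = val t x hx * val (appS g U e) x hx) : g ≠ 0 := by
  rintro rfl
  apply hv
  apply Sga67.Sec.hom_ext
  intro U t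
  rw [appS_zero]
  apply eq_zero_of_pairS hf hE
  intro V hV e
  apply val_ext
  intro x hx
  rw [← appS_res, hg, appS_zero, val_zero, mul_zero, val_zero]

/-- A section of the normalised twist gives a nonzero endomorphism killing it. -/
theorem exists_nilpotent (hE : FlatMod.IsFinLocFreeOfRank 2 E) (hf : IsWedge f) (k₀ : ℤ)
    (hk₀ : c + 2 * k₀ = 0 ∨ c + 2 * k₀ = -1) (v : OO n k (-k₀) ⟶ E) (hv : v ≠ 0) :
    ∃ φ : E ⟶ E, φ ≠ 0 ∧ v ≫ φ = 0 := by
  obtain ⟨g, hg⟩ := exists_wdg f (show -k₀ + (c + k₀) = c by ring) v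
  obtain ⟨N, hN⟩ : ∃ N : ℕ, (c + k₀) + N = -k₀ := ⟨(-(c + 2 * k₀)).toNat, by omega⟩
  let T : gr n k N := ⟨_, X_pow_mem 0 N⟩
  have hT : T ≠ 0 := fun h => pow_ne_zero N (MvPolynomial.X_ne_zero (R := k) (0 : Fin (n + 1)))
    (congrArg Subtype.val h)
  have h1 : Mono (mulMap T hN) := mono_mulMap' T hT hN
  have h2 := mono_of_ne_zero hE hf v hv
  refine ⟨g ≫ mulMap T hN ≫ v, ?_, ?_⟩
  · intro h0
    have h3 : Mono (mulMap T hN ≫ v) := mono_comp _ _
    apply wdg_ne_zero hE hf v hv g hg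
    rw [← cancel_mono (mulMap T hN ≫ v), h0, zero_comp]
  · rw [← Category.assoc, wdg_self hf v g hg, zero_comp]

end K698.Simple
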