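import Groth.Agent.VBPn.K698.Split

/-!
# A line with the expected splitting type
-/

set_option autoImplicit false
universe u

open CategoryTheory CategoryTheory.Limits AlgebraicGeometry Opposite TopologicalSpace TopCat
open Groth.Agent Groth.Agent.Sga67.Sec Groth.Agent.Sga67.LocBasis K699.TwHom
open Groth.Agent.VarietyB.TwistMul K698.Val K698.ThmA K698.Wedge K698.Pl K698.Restr

namespace K698.Line

variable {n m : ℕ} {k : Type u} [Field k]

/-- The linear embedding, typed with `PP`. -/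
noncomputable abbrev em (A : (Fin (n + 1) → k) →ₗ[k] (Fin (m + 1) → k)) (hA : Function.Surjective A) :
    PP m k ⟶ PP n k := K697.Lin.emb A hA

theorem pullA {E : (PP n k).Modules} {c : ℤ} (h : RankTwo E c)
    (A : (Fin (n + 1) → k) →ₗ[k] (Fin (m + 1) → k)) (hA : Function.Surjective A) :
    RankTwo ((Scheme.Modules.pullback (em A hA)).obj E) c := by
  obtain ⟨hE, L, hL, ⟨e⟩⟩ := h
  exact ⟨Krr.H482.PullLambda.isFinLocFreeOfRank_pullback _ hE, _,
    Krr.H482.PullFinal.isExtPow_pullback _ (Basic.isFinLocFree_of_rank hE) hL,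
    ⟨(Scheme.Modules.pullback (em A hA)).mapIso e ≪≫
      pullO (K697.Lin.gr A) (Sga5.ProjSurj.irrelevant_le_map (K697.Lin.degSurj hA))
        (Ega3B.ProjFrame.coveredByOne n k) c⟩⟩

/-- Vanishing for one twist gives vanishing for the larger twists. -/
theorem weaken {E : (PP n k).Modules} {c : ℤ} (hE : RankTwo E c) {b b' : ℤ} (hb : b ≤ b')
    (h : ∀ v : OO n k b ⟶ E, v = 0) (v : OO n k b' ⟶ E) : v = 0 := by
  by_contra hv
  obtain ⟨hE2, L, hL, ⟨e⟩⟩ := hE
  obtain ⟨f, hf⟩ := exists_wedge hL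
  have hm := Simple.mono_of_ne_zero hE2 (hf.comp_iso e) v hv
  obtain ⟨i, hi⟩ : ∃ i : ℕ, b + i = b' := ⟨(b' - b).toNat, by omega⟩
  have h1 := mulMap_ne_zero (n := n) (k := k) (m := b) (m' := b') hi
      (a := ⟨_, X_pow_mem 0 i⟩) (by
        intro h
        exact pow_ne_zero i (MvPolynomial.X_ne_zero (R := k) (0 : Fin (n + 1))) (congrArg Subtype.val h))
  apply h1
  rw [← cancel_mono v, zero_comp]
  exact h _

/-- The line. -/
theorem exists_line [CharZero k] {c k₀ : ℤ} (hk₀ : c + 2 * k₀ = 0 ∨ c + 2 * k₀ = -1) (l : ℕ)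
    (E : (PP (l + 1) k).Modules) (hE : RankTwo E c) (h : ∀ v : OO (l + 1) k (c + k₀ + 1) ⟶ E, v = 0) :
    ∃ (A : (Fin (l + 1 + 1) → k) →ₗ[k] (Fin (1 + 1) → k)) (hA : Function.Surjective A),
      ∀ v : OO 1 k (-k₀ + 1) ⟶ (Scheme.Modules.pullback (em A hA)).obj E, v = 0 := by
  induction l with
  | zero =>
    refine ⟨LinearMap.id, Function.surjective_id, ?_⟩
    have he : em (LinearMap.id : (Fin (0 + 1 + 1) → k) →ₗ[k] (Fin (0 + 1 + 1) → k)) Function.surjective_id = 𝟙 _ :=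
      K697.Lin.emb_id _
    rw [he]
    intro v
    rw [← cancel_mono ((Scheme.Modules.pullbackId _).hom.app E), zero_comp]
    exact weaken hE (by omega : c + k₀ + 1 ≤ -k₀ + 1) h _
  | succ l ih =>
    rcases Nat.eq_zero_or_pos l with rfl | hl
    · obtain ⟨z, hz⟩ := exists_vanish (l := 1) le_rfl hE (-k₀ + 1) (Or.inl (by omega))
        (weaken hE (by omega : c + k₀ + 1 ≤ -k₀ + 1) h)
      exact ⟨Az z, Az_surj z, hz⟩
    · obtain ⟨z, hz⟩ := exists_vanish (l := l + 1) (by omega) hE (c + k₀ + 1) (Or.inr ⟨by omega, by omega⟩) h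
      obtain ⟨A, hA, hv⟩ := ih _ (hE.pull z) hz
      refine ⟨A ∘ₗ Az z, hA.comp (Az_surj z), ?_⟩
      have he : em (A ∘ₗ Az z) (hA.comp (Az_surj z)) = em A hA ≫ iz z := K697.Lin.emb_comp A (Az z) hA (Az_surj z) _
      rw [he]
      intro v
      rw [← cancel_mono ((Scheme.Modules.pullbackComp _ _).inv.app E), zero_comp]
      exact hv _

theorem nonempty_iso_of_split {X : Scheme.{u}} (F : Fin 2 → X.Modules) : Nonempty ((∐ F) ≅ F 0 ⊞ F 1) := by
  refine ⟨⟨Sigma.desc (fun i => Fin.cases (motive := fun i => F i ⟶ F 0 ⊞ F 1) biprod.inl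
    (fun j => Fin.cases (motive := fun j => F j.succ ⟶ F 0 ⊞ F 1) biprod.inr (fun j => j.elim0) j) i),
    biprod.desc (Sigma.ι F 0) (Sigma.ι F 1), ?_, ?_⟩⟩
  · apply Sigma.hom_ext
    intro i
    rw [Sigma.ι_desc_assoc, Category.comp_id]
    fin_cases i
    · exact biprod.inl_desc _ _
    · exact biprod.inr_desc _ _
  · apply biprod.hom_ext'
    · rw [biprod.inl_desc_assoc, Sigma.ι_desc, Category.comp_id]
      rfl
    · rw [biprod.inr_desc_assoc, Sigma.ι_desc, Category.comp_id]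
      rfl

/-- The splitting type. -/
theorem split_type (hn : 1 ≤ n) {E : (PP n k).Modules} {c k₀ : ℤ} (hk₀ : c + 2 * k₀ = 0 ∨ c + 2 * k₀ = -1)
    (hE : RankTwo E c) (d : Fin 2 → ℤ) (hd : Antitone d) (e : E ≅ ∐ fun i => OO n k (d i))
    (h : ∀ v : OO n k (-k₀ + 1) ⟶ E, v = 0) : Nonempty (E ≅ OO n k (-k₀) ⊞ OO n k (c + k₀)) := by
  obtain ⟨e'⟩ := nonempty_iso_of_split fun i => OO n k (d i)
  have e2 : E ≅ OO n k (d 0) ⊞ OO n k (d 1) := e ≪≫ e'
  have hd' : d 1 ≤ d 0 := hd (by decide)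
  have hE' := hE
  obtain ⟨hE2, L, hL, ⟨eL⟩⟩ := hE
  obtain ⟨f, hf⟩ := exists_wedge hL
  have hsum := Split.add_eq hn (hf.comp_iso eL) (biprod.inl ≫ e2.inv) (biprod.inr ≫ e2.inv)
    (e2.hom ≫ biprod.fst) (e2.hom ≫ biprod.snd) (by simp) (by simp) (by simp) (by simp) (by
      rw [Category.assoc, Category.assoc, ← Preadditive.comp_add, ← Category.assoc, ← Category.assoc,
        ← Preadditive.add_comp, biprod.total, Category.id_comp, Iso.hom_inv_id])
  have hle : d 0 ≤ -k₀ := by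
    by_contra hlt
    push Not at hlt
    obtain ⟨i, hi⟩ : ∃ i : ℕ, (-k₀ + 1) + i = d 0 := ⟨(d 0 - (-k₀ + 1)).toNat, by omega⟩
    have h1 := mulMap_ne_zero (n := n) (k := k) hi (a := ⟨_, X_pow_mem 0 i⟩) (by
        intro h
        exact pow_ne_zero i (MvPolynomial.X_ne_zero (R := k) (0 : Fin (n + 1))) (congrArg Subtype.val h))
    apply h1
    rw [← cancel_mono (biprod.inl ≫ e2.inv : OO n k (d 0) ⟶ E), zero_comp]
    exact h _
  have h0 : d 0 = -k₀ := by omega
  have h1 : d 1 = c + k₀ := by omega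
  rw [← h0, ← h1]
  exact ⟨e2⟩

end K698.Line
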