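import Groth.Agent.VBPn.K698.Restr
import Groth.Agent.VBPn.K698.Simple
import Groth.Agent.Krr.H482.PullFinal

/-!
# Restriction of rank-two bundles to the general hyperplane
-/

set_option autoImplicit false
universe u

open CategoryTheory CategoryTheory.Limits AlgebraicGeometry Opposite TopologicalSpace TopCat
open Groth.Agent Groth.Agent.Sga67.Sec Groth.Agent.Sga67.LocBasis K699.TwHom
open Groth.Agent.VarietyB.TwistMul K698.Val K698.ThmA K698.Pl K698.Wedge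

namespace K698.Restr

variable {k : Type u} [Field k] {n l : ℕ}

/-- A rank-two bundle with determinant `O(c)`. -/
def RankTwo (E : (PP n k).Modules) (c : ℤ) : Prop :=
  FlatMod.IsFinLocFreeOfRank 2 E ∧ ∃ L : (PP n k).Modules, ExtPow.IsExtPow 2 E L ∧ Nonempty (L ≅ OO n k c)

theorem RankTwo.pull {E : (PP (l + 1) k).Modules} {c : ℤ} (h : RankTwo E c) (z : Fin (l + 1) → k) :
    RankTwo ((Scheme.Modules.pullback (iz z)).obj E) c := by
  obtain ⟨hE, L, hL, ⟨e⟩⟩ := h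
  refine ⟨Krr.H482.PullLambda.isFinLocFreeOfRank_pullback _ hE, _,
    Krr.H482.PullFinal.isExtPow_pullback (iz z) (Basic.isFinLocFree_of_rank hE) hL,
    ⟨(Scheme.Modules.pullback (iz z)).mapIso e ≪≫
      pullO (K697.Lin.gr (Az z)) (Sga5.ProjSurj.irrelevant_le_map (K697.Lin.degSurj (Az_surj z)))
        (Ega3B.ProjFrame.coveredByOne (l + 1) k) c⟩⟩

theorem exists_vanish [CharZero k] (hl : 1 ≤ l) {E : (PP (l + 1) k).Modules} {c : ℤ} (hE : RankTwo E c)
    (b : ℤ) (hb : c + 2 ≤ 2 * b ∨ (2 ≤ l ∧ c + 1 ≤ 2 * b)) (h : ∀ v : OO (l + 1) k b ⟶ E, v = 0) :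
    ∃ z : Fin (l + 1) → k, ∀ v : OO l k b ⟶ (Scheme.Modules.pullback (iz z)).obj E, v = 0 := by
  by_contra hcon
  push Not at hcon
  obtain ⟨hE2, L, hL, ⟨e⟩⟩ := hE
  obtain ⟨f, hf⟩ := exists_wedge hL
  obtain ⟨m, m', D, N, hB, hc, ⟨P⟩⟩ := Simple.exists_pres_ge hE2 (hf.comp_iso e) b
  obtain ⟨d, hd⟩ : ∃ d : ℕ, b + d = m' := ⟨(m' - b).toNat, by omega⟩
  have hm := P.hm
  obtain ⟨v, hv⟩ := exists_hom hl P hd (by
    rcases hb with hb | hb
    · exact Or.inl (by omega)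
    · exact Or.inr ⟨hb.1, by omega⟩) hcon
  exact hv (h v)

end K698.Restr
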