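import Groth.Agent.VBPn.K698.PlForms
import Groth.Agent.Gaga.H883.Serre

/-!
# Rank-two bundles on projective space have Plücker presentations
-/

set_option autoImplicit false
universe u

open CategoryTheory CategoryTheory.Limits AlgebraicGeometry Opposite TopologicalSpace TopCat
open Groth.Agent Groth.Agent.Sga67.Sec Groth.Agent.Sga67.LocBasis K699.TwHom
open Groth.Agent.VarietyB.TwistMul K698.Val K698.ThmA K698.Wedge

namespace K698.Pl

attribute [local instance] CategoryTheory.Limits.HasFiniteBiproducts.of_hasFiniteProducts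

section LocalAlgebra

variable {X : Scheme.{u}} {E L : X.Modules} {f : CohB1.tensorMod E E ⟶ L} (hf : IsWedge f)

include hf

theorem pairS_comm (U : X.Opens) (x y : Sec E U) : pairS f U x y = - pairS f U y x := by
  have h := hf.alt U (x + y)
  rw [map_add, map_add, LinearMap.add_apply, LinearMap.add_apply, hf.alt, hf.alt, zero_add, add_zero] at h
  exact eq_neg_of_add_eq_zero_right h

/-- In a local basis the pairing is a determinant. -/
theorem exists_bracket {V : X.Opens} {b : Fin 2 → Sec E V} (hb : IsLocBasis b) :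
    ∃ br : Sec E V → Sec E V → Γ(X, V), (∀ x y, pairS f V x y = br x y • pairS f V (b 0) (b 1)) ∧
      (∀ x y z w, br x y * br z w - br x z * br y w + br y z * br x w = 0) := by
  have hs : ∀ x : Sec E V, ∃ a : Fin 2 → Γ(X, V), x = a 0 • b 0 + a 1 • b 1 := by
    intro x
    obtain ⟨a, ha⟩ := (hb V le_rfl).2 x
    refine ⟨a, ?_⟩
    rw [← ha, comb_apply, Fin.sum_univ_two, res_self, res_self]
  choose co hco using hs
  refine ⟨fun x y => co x 0 * co y 1 - co x 1 * co y 0, fun x y => ?_, fun x y z w => by ring⟩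
  have h10 : pairS f V (b 1) (b 0) = - pairS f V (b 0) (b 1) := pairS_comm hf V _ _
  conv_lhs => rw [hco x, hco y]
  simp only [map_add, map_smul, LinearMap.add_apply, LinearMap.smul_apply, hf.alt, h10, smul_zero,
    zero_add, add_zero, smul_neg, smul_smul, sub_smul]
  rw [mul_comm (co y 1) (co x 0), mul_comm (co y 0) (co x 1)]
  abel

theorem eq_zero_of_pairS_local {V : X.Opens} {b : Fin 2 → Sec E V} (hb : IsLocBasis b) (z : Sec E V)
    (hz : ∀ e : Sec E V, pairS f V z e = 0) : z = 0 := by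
  obtain ⟨a, ha⟩ := (hb V le_rfl).2 z
  have ha' : z = a 0 • b 0 + a 1 • b 1 := by
    rw [← ha, comb_apply, Fin.sum_univ_two, res_self, res_self]
  have hω := (hf.basis V b hb V le_rfl).1
  have key : ∀ c : Γ(X, V), c • pairS f V (b 0) (b 1) = 0 → c = 0 := by
    intro c hc
    have h1 : comb (M := L) (fun _ : Fin 1 => pairS f V (b 0) (b 1)) le_rfl (fun _ => c) = 0 := by
      rw [comb_apply, Fin.sum_univ_one, res_self]
      exact hc
    exact congrFun (hω (h1.trans (map_zero _).symm)) 0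
  have h10 : pairS f V (b 1) (b 0) = - pairS f V (b 0) (b 1) := pairS_comm hf V _ _
  have e1 := hz (b 1)
  have e0 := hz (b 0)
  rw [ha'] at e1 e0
  simp only [map_add, map_smul, LinearMap.add_apply, LinearMap.smul_apply, hf.alt, h10, smul_zero,
    zero_add, add_zero, smul_neg, neg_eq_zero] at e1 e0
  rw [ha', key _ e1, key _ e0, zero_smul, zero_smul, add_zero]

theorem eq_zero_of_pairS (hE : FlatMod.IsFinLocFreeOfRank 2 E) {U : X.Opens} (z : Sec E U)
    (hz : ∀ (V : X.Opens) (h : V ≤ U) (e : Sec E V), pairS f V (res E h z) e = 0) : z = 0 := by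
  apply eq_of_locally
  intro x hx
  obtain ⟨V, hV, hxV, b, hb⟩ := Basic.exists_basis hE hx
  refine ⟨V, hV, hxV, ?_⟩
  rw [map_zero]
  exact eq_zero_of_pairS_local hf hb _ (hz V hV)

end LocalAlgebra

section PS

variable {n : ℕ} {k : Type u} [Field k] {E : (PP n k).Modules} {c : ℤ}
  {f : CohB1.tensorMod E E ⟶ OO n k c}

theorem plucker4 (hf : IsWedge f) (hE : FlatMod.IsFinLocFreeOfRank 2 E) {U : (PP n k).Opens}
    (x y z w : Sec E U) (p : Pt n k) (hp : p ∈ U) :
    val (pairS f U x y) p hp * val (pairS f U z w) p hp - val (pairS f U x z) p hp * val (pairS f U y w) p hp +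
      val (pairS f U y z) p hp * val (pairS f U x w) p hp = 0 := by
  obtain ⟨V, hV, hpV, b, hb⟩ := Basic.exists_basis hE hp
  obtain ⟨br, hbr, hpl⟩ := exists_bracket hf hb
  have key : ∀ x y : Sec E U, val (pairS f U x y) p hp =
      valO (br (res E hV x) (res E hV y)) p hpV * val (pairS f V (b 0) (b 1)) p hpV := by
    intro x y
    have h1 : val (pairS f U x y) p hp = val (pairS f V (res E hV x) (res E hV y)) p hpV := by
      rw [pairS_res]; rfl
    rw [h1, hbr, val_smul]
  have h2 := hpl (res E hV x) (res E hV y) (res E hV z) (res E hV w)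
  have h4 := congrArg (valOHom V p hpV) h2
  rw [map_add, map_sub, map_mul, map_mul, map_mul, map_zero] at h4
  simp only [valOHom_apply] at h4
  rw [key, key, key, key, key, key]
  linear_combination (val (pairS f V (b 0) (b 1)) p hpV) ^ 2 * h4

/-- The map `v ∧ -` for `v : O(a) → E`. -/
theorem exists_wdg (f : CohB1.tensorMod E E ⟶ OO n k c) {a c' : ℤ} (hc : a + c' = c) (v : OO n k a ⟶ E) :
    ∃ g : E ⟶ OO n k c', ∀ (U : (PP n k).Opens) (t : Sec (OO n k a) U) (e : Sec E U) (x : Pt n k) (hx : x ∈ U),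
      val (pairS f U (appS v U t) e) x hx = val t x hx * val (appS g U e) x hx :=
  exists_div hc (fun U => (pairS f U) ∘ₗ (appS v U)) (by
    intro U V h t m
    rw [LinearMap.comp_apply, LinearMap.comp_apply, appS_res, pairS_res])

/-- The value of a local generator of `O(c)` is a unit. -/
theorem isUnit_val_of_basis {V : (PP n k).Opens} {ω : Sec (OO n k c) V}
    (hω : IsLocBasis (M := OO n k c) (fun _ : Fin 1 => ω)) (x : Pt n k) (hx : x ∈ V) :
    IsUnit (val ω x hx) := by
  obtain ⟨g, W, hxW, hW⟩ := exists_chart x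
  have hxVW : x ∈ V ⊓ W := ⟨hx, hxW⟩
  obtain ⟨a, ha⟩ := (hω (V ⊓ W) inf_le_left).2 (pw g c (V ⊓ W) (fun y hy => hW y hy.2))
  rw [comb_apply, Fin.sum_univ_one] at ha
  have h1 := congrArg (fun s => val s x hxVW) ha
  have h2 : valO (a 0) x hxVW * val ω x hx = val (pw g c (V ⊓ W) (fun y hy => hW y hy.2)) x hxVW :=
    (val_smul _ _ _ _).symm.trans h1
  have h3 := isUnit_val_pw g c (fun y (hy : y ∈ V ⊓ W) => hW y hy.2) x hxVW
  rw [← h2] at h3
  exact isUnit_of_mul_isUnit_right h3

theorem exists_epi {E : (PP n k).Modules} (hE : Coh.IsCoh E) :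
    ∃ m₀ : ℕ, ∀ m : ℤ, m ≤ -m₀ → ∃ (N : ℕ) (p : (⨁ fun _ : Fin N => OO n k m) ⟶ E), Epi p := by
  obtain ⟨m₀, hm₀⟩ := Gaga.H883.Serre.exists_epi_sumO n k (M := E) hE
  refine ⟨m₀, fun m hm => ?_⟩
  have h1 := hm₀ (-m) (by omega)
  rw [neg_neg] at h1
  obtain ⟨N, p, hp⟩ := h1
  exact ⟨N, p, hp⟩

theorem pairS_mem (f : CohB1.tensorMod E E ⟶ OO n k c) {m : ℤ} {N : ℕ} (σ : Fin N → (OO n k m ⟶ E))
    {W : (PP n k).Opens} (x : Pt n k) (hx : x ∈ W) (I : Ideal (Twist.Loc (gr n k) x))
    (h : ∀ (a b : Fin N) (s t : Sec (OO n k m) W), val (pairS f W (appS (σ a) W s) (appS (σ b) W t)) x hx ∈ I)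
    (u v : Fin N → Sec (OO n k m) W) :
    val (pairS f W (∑ a, appS (σ a) W (u a)) (∑ b, appS (σ b) W (v b))) x hx ∈ I := by
  rw [map_sum, val_sum]
  refine Ideal.sum_mem _ fun b _ => ?_
  have h1 : pairS f W (∑ a, appS (σ a) W (u a)) (appS (σ b) W (v b)) =
      ∑ a, pairS f W (appS (σ a) W (u a)) (appS (σ b) W (v b)) :=
    map_sum ((pairS f W).flip (appS (σ b) W (v b))) _ _
  rw [h1, val_sum]
  exact Ideal.sum_mem _ fun a _ => h a b _ _

theorem exists_pres (hE : FlatMod.IsFinLocFreeOfRank 2 E) (hf : IsWedge f) :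
    ∃ m₀ : ℤ, ∀ (m m' : ℤ) (D : ℕ), m ≤ m₀ → m + m' = c → m + D = m' →
      ∃ N : ℕ, Nonempty (Pres E (Fin N) m m' D) := by
  obtain ⟨m₀, hm₀⟩ := exists_epi (PerfA.CohSerre.isCoh_of_isFinLocFree (Basic.isFinLocFree_of_rank hE))
  refine ⟨-m₀, fun m m' D hm hc hD => ?_⟩
  obtain ⟨N, p, hp⟩ := hm₀ m hm
  let σ : Fin N → (OO n k m ⟶ E) := fun a => biproduct.ι (fun _ : Fin N => OO n k m) a ≫ p
  choose w hw using fun a => exists_wdg f hc (σ a)
  choose q hq using fun a b => exists_mulMap hD (σ b ≫ w a)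
  have hsw : ∀ (a b : Fin N) (U : (PP n k).Opens) (t : Sec (OO n k m) U) (x : Pt n k) (hx : x ∈ U),
      val (appS (w a) U (appS (σ b) U t)) x hx = al x (q a b).1 * val t x hx := fun a b U t x hx =>
    congrArg (fun g : OO n k m ⟶ OO n k m' => val (appS g U t) x hx) (hq a b)
  have hww : ∀ (a b : Fin N) (U : (PP n k).Opens) (s t : Sec (OO n k m) U) (x : Pt n k) (hx : x ∈ U),
      val (pairS f U (appS (σ a) U s) (appS (σ b) U t)) x hx = val s x hx * (al x (q a b).1 * val t x hx) :=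
    fun a b U s t x hx => by rw [hw, hsw]
  have halt : ∀ a b, (q a b).1 = - (q b a).1 := by
    intro a b
    refine eq_of_al_eq fun x => ?_
    obtain ⟨g, U, hxU, hU⟩ := exists_chart x
    have h1 := hww a b U (pw g m U hU) (pw g m U hU) x hxU
    have h2 := hww b a U (pw g m U hU) (pw g m U hU) x hxU
    rw [pairS_comm hf, val_neg, h2] at h1
    have hu := isUnit_val_pw g m hU x hxU
    apply hu.mul_left_cancel
    apply hu.mul_left_cancel
    rw [map_neg]
    linear_combination -h1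
  have hepi : ∀ (Z : (PP n k).Modules) (g : E ⟶ Z), (∀ a, σ a ≫ g = 0) → g = 0 := by
    intro Z g hg
    rw [← cancel_epi p, comp_zero]
    apply biproduct.hom_ext'
    intro a
    rw [comp_zero, ← Category.assoc]
    exact hg a
  have hgen : ∀ {U : (PP n k).Opens} (s : Sec E U) {x : PP n k} (hx : x ∈ U),
      ∃ (V : (PP n k).Opens) (h : V ≤ U), x ∈ V ∧ ∃ c : Fin N → Sec (OO n k m) V,
      ∑ a, appS (σ a) V (c a) = res E h s := by
    intro U s x hx
    obtain ⟨V, hV, hxV, t, ht⟩ := locally_surjective_of_epi p s x hx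
    refine ⟨V, hV, hxV, fun a => appS (biproduct.π _ a) V t, ?_⟩
    rw [← ht]
    have h2 : appS (𝟙 (⨁ fun _ : Fin N => OO n k m)) V t = t := appS_id _ _ _
    rw [← biproduct.total, appS_sum] at h2
    conv_rhs => rw [← h2, map_sum]
    rfl
  refine ⟨N, ⟨{ hm := hD, σ := σ, w := w, q := q, alt := halt, sw := hq, rel := ?_, epi := hepi, nz := ?_ }⟩⟩
  · intro a b c' m₁ h
    apply Sga67.Sec.hom_ext
    intro U ρ
    rw [appS_zero]
    apply eq_zero_of_pairS hf hE
    intro V hV e
    apply val_ext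
    intro x hx
    rw [val_zero]
    obtain ⟨g, W, hxW, hW⟩ := exists_chart x
    have hx' : x ∈ V ⊓ W := ⟨hx, hxW⟩
    let t0 := pw g m (V ⊓ W) (fun y hy => hW y hy.2)
    have hu := isUnit_val_pw g m (fun y (hy : y ∈ V ⊓ W) => hW y hy.2) x hx'
    let e' := res E (inf_le_left : V ⊓ W ≤ V) e
    have h1 := plucker4 hf hE (appS (σ a) _ t0) (appS (σ b) _ t0) (appS (σ c') _ t0) e' x hx'
    rw [hww, hww, hww, hw, hw, hw] at h1
    have hval : ∀ d, val (appS (w d) _ e') x hx' = val (appS (w d) V e) x hx := by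
      intro d
      rw [appS_res]; rfl
    rw [hval, hval, hval] at h1
    have h2 : ∀ (d : Fin N) (r : gr n k D), val (pairS f V (res E hV (appS (σ d) U (appS (mulMap r h) U ρ))) e) x hx =
        al x r.1 * val ρ x (hV hx) * val (appS (w d) V e) x hx := by
      intro d r
      rw [← appS_res, hw]
      rfl
    have h3 : appS (mulMap (q a b) h ≫ σ c' - mulMap (q a c') h ≫ σ b + mulMap (q b c') h ≫ σ a) U ρ =
      appS (σ c') U (appS (mulMap (q a b) h) U ρ) - appS (σ b) U (appS (mulMap (q a c') h) U ρ) +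
        appS (σ a) U (appS (mulMap (q b c') h) U ρ) := rfl
    rw [h3, map_add, map_sub, map_add, map_sub, LinearMap.add_apply, LinearMap.sub_apply, val_add, val_sub,
      h2, h2, h2]
    apply hu.mul_left_cancel
    apply hu.mul_left_cancel
    apply hu.mul_left_cancel
    linear_combination (val ρ x (hV hx)) * h1
  · intro x
    by_contra hcon
    push Not at hcon
    obtain ⟨V, hV, hxV, b, hb⟩ := Basic.exists_basis hE (U := (⊤ : (PP n k).Opens)) (x := x) trivial
    obtain ⟨W₀, hW₀, hxW₀, c₀, hc₀⟩ := hgen (b 0) hxV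
    obtain ⟨W₁, hW₁, hxW₁, c₁, hc₁⟩ := hgen (res E hW₀ (b 1)) hxW₀
    have hu := isUnit_val_of_basis (hf.basis V b hb) x hxV
    have h2 : val (pairS f V (b 0) (b 1)) x hxV =
        val (pairS f W₁ (res E hW₁ (res E hW₀ (b 0))) (res E hW₁ (res E hW₀ (b 1)))) x hxW₁ := by
      rw [pairS_res, pairS_res]; rfl
    have h3 : res E hW₁ (res E hW₀ (b 0)) = ∑ a, appS (σ a) W₁ (res _ hW₁ (c₀ a)) := by
      rw [← hc₀, map_sum]
      exact Finset.sum_congr rfl fun a _ => (appS_res _ _ _).symm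
    have hmem := pairS_mem f σ x hxW₁ (IsLocalRing.maximalIdeal (Twist.Loc (gr n k) x)) (by
      intro a b s t
      rw [hww]
      refine Ideal.mul_mem_left _ _ (Ideal.mul_mem_right _ _ ?_)
      exact (IsLocalization.AtPrime.to_map_mem_maximal_iff (Twist.Loc (gr n k) x)
        x.asHomogeneousIdeal.toIdeal _).mpr (hcon a b)) (fun a => res _ hW₁ (c₀ a)) c₁
    rw [← h3, hc₁, ← h2] at hmem
    exact (IsLocalRing.mem_maximalIdeal _).mp hmem hu

end PS

end K698.Pl
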