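import Mathlib.FieldTheory.IsAlgClosed.Spectrum
import Mathlib.LinearAlgebra.FiniteDimensional.Basic
import Mathlib.RingTheory.UniqueFactorizationDomain.Basic

/-!
# Eigenvalues in finite-dimensional algebras
-/

set_option autoImplicit false

namespace K698.Eigen

theorem exists_eigen {k A V : Type*} [Field k] [IsAlgClosed k] [Ring A] [Nontrivial A] [AddCommGroup V]
    [Module k V] [Module.Finite k V] (ρ : k →+* A) (hρ : ∀ c a, ρ c * a = a * ρ c) (L : A →+ V)
    (hL : Function.Injective L) (hLs : ∀ c a, L (ρ c * a) = c • L a) (φ : A) :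
    ∃ (c : k) (χ : A), χ ≠ 0 ∧ (φ - ρ c) * χ = 0 := by
  let _ : Algebra k A := ρ.toAlgebra' hρ
  let L' : A →ₗ[k] V :=
    { toFun := L
      map_add' := map_add L
      map_smul' := fun c a => by
        rw [Algebra.smul_def]
        exact hLs c a }
  have : FiniteDimensional k A := FiniteDimensional.of_injective L' hL
  obtain ⟨c, hc⟩ := spectrum.nonempty_of_isAlgClosed_of_finiteDimensional k φ
  rw [spectrum.mem_iff] at hc
  refine ⟨c, ?_⟩
  by_contra hcon
  push Not at hcon
  apply hc
  have hinj : Function.Injective (LinearMap.mulLeft k (φ - ρ c)) := by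
    rw [injective_iff_map_eq_zero]
    intro χ hχ
    by_contra h0
    exact hcon χ h0 hχ
  have hsurj := LinearMap.injective_iff_surjective.mp hinj
  obtain ⟨χ, hχ⟩ := hsurj 1
  rw [LinearMap.mulLeft_apply] at hχ
  have h2 : χ * (φ - ρ c) = 1 := by
    apply hinj
    rw [LinearMap.mulLeft_apply, LinearMap.mulLeft_apply, ← mul_assoc, hχ, one_mul, mul_one]
  have h3 : IsUnit (φ - ρ c) := ⟨⟨φ - ρ c, χ, hχ, h2⟩, rfl⟩
  have h4 : algebraMap k A c - φ = -(φ - ρ c) := by
    rw [neg_sub]; rfl
  rw [h4]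
  exact h3.neg

end K698.Eigen
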