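import Groth.Agent.VBPn.K698.Basic
import Groth.Agent.VBPn.K698.Eigen

/-!
# Scalar endomorphisms of sheaves of modules
-/

set_option autoImplicit false
universe u

open CategoryTheory CategoryTheory.Limits AlgebraicGeometry Opposite TopologicalSpace
open Groth.Agent.Sga67.Sec Groth.Agent.Sga67.LocBasis

namespace K698.Scal

variable {X : Scheme.{u}}

theorem exists_scal (E : X.Modules) (r : Γ(X, ⊤)) :
    ∃ f : E ⟶ E, ∀ (U : X.Opens) (s : Sec E U), appS f U s = resO X (le_top : U ≤ ⊤) r • s := by
  refine exists_hom_of_basis' (ι := X.Opens) (B := id) ?_ E E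
    (fun U => LinearMap.lsmul Γ(X, U) (Sec E U) (resO X (le_top : U ≤ ⊤) r)) ?_
  · rw [Set.range_id]
    exact Opens.isBasis_iff_nbhd.mpr fun {U x} hx => ⟨U, Set.mem_univ _, hx, le_rfl⟩
  · intro U V h s
    have h1 : ∀ (U V : X.Opens) (h : V ≤ U) (s : Sec E U),
        resO X (le_top : V ≤ ⊤) r • res E h s = res E h (resO X (le_top : U ≤ ⊤) r • s) := by
      intro U V h s
      rw [res_smul, resO_resO]
    exact h1 U V h s

/-- Multiplication by a global function. -/
noncomputable def scal (E : X.Modules) (r : Γ(X, ⊤)) : E ⟶ E := (exists_scal E r).choose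

theorem appS_scal (E : X.Modules) (r : Γ(X, ⊤)) (U : X.Opens) (s : Sec E U) :
    appS (scal E r) U s = resO X (le_top : U ≤ ⊤) r • s := (exists_scal E r).choose_spec U s

theorem scal_comp {E F : X.Modules} (f : E ⟶ F) (r : Γ(X, ⊤)) : scal E r ≫ f = f ≫ scal F r := by
  apply hom_ext
  intro U s
  rw [appS_comp, appS_comp, appS_scal, appS_scal, map_smul]

/-- Global functions act on a module. -/
noncomputable def scalHom (E : X.Modules) : Γ(X, ⊤) →+* End E where
  toFun r := scal E r
  map_one' := by
    apply hom_ext
    intro U s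
    rw [appS_scal, map_one, one_smul]
    rfl
  map_mul' r t := by
    apply hom_ext
    intro U s
    change _ = appS (scal E t ≫ scal E r) U s
    rw [appS_comp, appS_scal, appS_scal, appS_scal, map_mul, mul_smul]
  map_zero' := by
    apply hom_ext
    intro U s
    rw [appS_scal, map_zero, zero_smul]
    rfl
  map_add' r t := by
    apply hom_ext
    intro U s
    change _ = appS (scal E r + scal E t) U s
    rw [appS_add, appS_scal, appS_scal, appS_scal, map_add, add_smul]

/-- A morphism which is `scal` is a homothety in the sense of the frozen statements. -/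
theorem toSheaf_map_scal (E : X.Modules) (r : Coh.Γtop X) :
    (SheafOfModules.toSheaf X.ringCatSheaf).map (scal E (Basic.toGam X r)) = Coh.smulAb E r :=
  Basic.toSheaf_map_eq fun U s => appS_scal E _ U s

end K698.Scal
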