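import Groth.Agent.VBPn.K698.Simple
import Groth.Agent.VBPn.K698.Scal
import Groth.Agent.Divis.GradedDvd

/-!
# Endomorphisms of rank-two bundles without sections in the normalised twist are homotheties
-/

set_option autoImplicit false
universe u

open CategoryTheory CategoryTheory.Limits AlgebraicGeometry Opposite TopologicalSpace TopCat
open Groth.Agent Groth.Agent.Sga67.Sec Groth.Agent.Sga67.LocBasis K699.TwHom
open Groth.Agent.VarietyB.TwistMul K698.Val K698.ThmA K698.Wedge K698.Pl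

namespace K698.Homoth

section Alg

variable {k : Type u} [Field k] {n : ℕ} {ι : Type} [Fintype ι]

/-- Divisors of nonzero forms are forms. -/
theorem exists_form_factor {d : ℕ} {a b : MvPolynomial (Fin (n + 1)) k} (h : a * b ∈ gr n k d) (h0 : a * b ≠ 0) :
    ∃ i j, i + j = d ∧ a ∈ gr n k i ∧ b ∈ gr n k j :=
  Divis.GradedDvd.exists_mem_of_mul_mem (gr n k) h h0

/-- A tuple of forms of degree `d` which is not divisible by a nonconstant form is primitive. -/
theorem primitive_of {d : ℕ} (s : ι → gr n k d) (hs : s ≠ 0)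
    (h : ∀ (i j : ℕ) (p : gr n k i) (t : ι → gr n k j), i + j = d → (∀ a, (s a).1 = p.1 * (t a).1) → i = 0) :
    ∀ x p : MvPolynomial (Fin (n + 1)) k, (∀ b, x ∣ (s b).1 * p) → x ∣ p := by
  obtain ⟨g, t, hg0, hst, hprim⟩ := exists_primitive (fun a => (s a).1) (by
    intro h0
    apply hs
    funext a
    exact Subtype.ext (congrFun h0 a))
  -- `g` and the `t a` are forms
  obtain ⟨a0, ha0⟩ : ∃ a, (s a).1 ≠ 0 := by
    by_contra hcon
    push Not at hcon
    apply hs
    funext a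
    exact Subtype.ext (hcon a)
  obtain ⟨i, j, hij, hgi, hta0⟩ := exists_form_factor (d := d) (a := g) (b := t a0)
    (by rw [← hst]; exact (s a0).2) (by rw [← hst]; exact ha0)
  have htj : ∀ a, t a ∈ gr n k j := by
    intro a
    by_cases hta : t a = 0
    · rw [hta]; exact Submodule.zero_mem _
    · obtain ⟨i', j', hij', hgi', hta'⟩ := exists_form_factor (d := d) (a := g) (b := t a)
        (by rw [← hst]; exact (s a).2) (mul_ne_zero hg0 hta)
      have hii : i = i' := by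
        have h1 : g.IsHomogeneous i := hgi
        have h2 : g.IsHomogeneous i' := hgi'
        rw [← h1.totalDegree hg0, ← h2.totalDegree hg0]
      have : j = j' := by omega
      rw [this]; exact hta'
  have hi := h i j ⟨g, hgi⟩ (fun a => ⟨t a, htj a⟩) hij (fun a => hst a)
  subst hi
  obtain ⟨c, hc⟩ : ∃ c : k, g = MvPolynomial.C c :=
    ⟨_, MvPolynomial.totalDegree_eq_zero_iff_eq_C.mp
      (le_antisymm (MvPolynomial.IsHomogeneous.totalDegree_le hgi) (Nat.zero_le _))⟩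
  have hc0 : c ≠ 0 := by
    rintro rfl
    exact hg0 (by rw [hc, MvPolynomial.C_0])
  have hu : IsUnit g := by
    rw [hc]
    exact (isUnit_iff_ne_zero.mpr hc0).map MvPolynomial.C
  intro x p hx
  apply hprim
  intro b
  have h1 := hx b
  rw [hst, mul_assoc] at h1
  exact (hu.dvd_mul_left).mp h1

end Alg

section Scalar

variable {n : ℕ} {k : Type u} [Field k]

/-- Scalars, as global functions. -/
noncomputable def kΓ : k →+* Γ(PP n k, ⊤) :=
  (Basic.toGam (PP n k)).comp (Coh.toGlobal (CohB1.ProjSpace.toSpec n k))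

theorem valO_kΓ (c : k) {U : (PP n k).Opens} (x : Pt n k) (hx : x ∈ U) :
    valO (resO (PP n k) (le_top : U ≤ ⊤) (kΓ c)) x hx = al x (MvPolynomial.C c) := by
  have h1 := Groth.Agent.FormalB.ProjScalar.toGlobal_val n k c (op U) x hx
  exact h1

theorem mulMap_smul {i : ℕ} (c : k) (a : gr n k i) {m m' : ℤ} (h : m + i = m') :
    mulMap (c • a) h = mulMap a h ≫ Scal.scal _ (kΓ c) := by
  apply Groth.Agent.Sga67.Sec.hom_ext
  intro U s
  rw [appS_comp, Scal.appS_scal]
  apply val_ext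
  intro x hx
  rw [val_smul, valO_kΓ, val_mulMap, val_mulMap]
  rw [← mul_assoc, ← map_mul, MvPolynomial.C_mul']
  rfl

/-- Homogeneous polynomials of given degree form a finite-dimensional space. -/
theorem finite_gr (d : ℕ) : Module.Finite k (gr n k d) :=
  Module.Finite.iff_fg.mpr (MvPolynomial.homogeneousSubmodule_fg _ _ d)

end Scalar

section Main

variable {n : ℕ} {k : Type u} [Field k] {E : (PP n k).Modules} {ι : Type} [Fintype ι] {m m' : ℤ} {D : ℕ}
  (P : Pres E ι m m' D)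

include P

/-- Every endomorphism becomes a zero divisor after subtracting a scalar. -/
theorem exists_eigen [IsAlgClosed k] (φ : E ⟶ E) (hE0 : 𝟙 E ≠ 0) :
    ∃ (c : k) (χ : E ⟶ E), χ ≠ 0 ∧ χ ≫ (φ - Scal.scal E (kΓ c)) = 0 := by
  classical
  choose F hF using fun (a : E ⟶ E) (i : ι) => (P.exists_forms P.hm (P.σ i ≫ a)).imp fun _ h => h.1
  have : Nontrivial (End E) := ⟨⟨1, 0, hE0⟩⟩
  have hfin := finite_gr (n := n) (k := k) D
  have hFadd : ∀ a b i j, F (a + b) i j = F a i j + F b i j := by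
    intro a b i j
    apply mulMap_inj (m := m) (h := P.hm)
    rw [mulMap_add, ← hF, ← hF, ← hF, Preadditive.comp_add, Preadditive.add_comp]
  let L : End E →+ (ι → ι → gr n k D) :=
    { toFun := fun a i j => F a i j
      map_zero' := by
        funext i j
        have := hFadd 0 0 i j
        rw [add_zero] at this
        exact left_eq_add.mp this
      map_add' := fun a b => by
        funext i j
        exact hFadd a b i j }
  have hL : Function.Injective L := by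
    rw [injective_iff_map_eq_zero]
    intro a ha
    refine P.epi _ _ fun i => ?_
    apply P.hom_eq_zero
    intro j
    rw [hF]
    have : F a i j = 0 := congrFun (congrFun ha i) j
    rw [this, mulMap_zero]
  obtain ⟨c, χ, hχ, h⟩ := Eigen.exists_eigen (k := k) (A := End E) (V := ι → ι → gr n k D)
    ((Scal.scalHom E).comp kΓ) (fun c a => Scal.scal_comp a (kΓ c) |>.symm) L hL (by
      intro c a
      funext i j
      apply mulMap_inj (m := m) (h := P.hm)
      change mulMap (F (a ≫ Scal.scal E (kΓ c)) i j) P.hm = mulMap (c • F a i j) P.hm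
      rw [← hF, mulMap_smul, ← hF, Category.assoc, Category.assoc, Category.assoc, Category.assoc, Scal.scal_comp]) φ
  exact ⟨c, χ, hχ, h⟩

/-- The largest twist of a kernel. -/
theorem exists_max (hn : 1 ≤ n) {F : (PP n k).Modules} (ψ : E ⟶ F) {a₀ : ℤ} (v₀ : OO n k a₀ ⟶ E) (hv₀ : v₀ ≠ 0)
    (h₀ : v₀ ≫ ψ = 0) : ∃ (a₁ : ℤ) (v₁ : OO n k a₁ ⟶ E), v₁ ≠ 0 ∧ v₁ ≫ ψ = 0 ∧ a₁ ≤ m' ∧
      ∀ (a : ℤ) (v : OO n k a ⟶ E), v ≠ 0 → v ≫ ψ = 0 → a ≤ a₁ := by
  have hb : ∀ (a : ℤ) (v : OO n k a ⟶ E), v ≠ 0 → a ≤ m' := by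
    intro a v hv
    by_contra hlt
    push Not at hlt
    apply hv
    apply P.hom_eq_zero
    intro i
    exact hom_eq_zero_of_lt hn hlt _
  obtain ⟨a₁, ⟨v₁, hv₁, h₁⟩, hmax⟩ := Int.exists_greatest_of_bdd
    (P := fun a => ∃ v : OO n k a ⟶ E, v ≠ 0 ∧ v ≫ ψ = 0)
    ⟨m', fun a ⟨v, hv, _⟩ => hb a v hv⟩ ⟨a₀, v₀, hv₀, h₀⟩
  exact ⟨a₁, v₁, hv₁, h₁, hb _ _ hv₁, fun a v hv h => hmax a ⟨v, hv, h⟩⟩

/-- A nonzero endomorphism with a kernel gives two maps `O(a₁) → E`, `O(c - a₁) → E`. -/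
theorem exists_two (hn : 1 ≤ n) (ψ : E ⟶ E) (hψ : ψ ≠ 0) {a₀ : ℤ} (v₀ : OO n k a₀ ⟶ E) (hv₀ : v₀ ≠ 0)
    (h₀ : v₀ ≫ ψ = 0) : ∃ (a₁ a₂ : ℤ) (v₁ : OO n k a₁ ⟶ E) (v₂ : OO n k a₂ ⟶ E),
      v₁ ≠ 0 ∧ v₂ ≠ 0 ∧ a₁ + a₂ = m + m' := by
  obtain ⟨a₁, v₁, hv₁, h₁, ha₁, hmax⟩ := exists_max P hn ψ v₀ hv₀ h₀
  obtain ⟨e, he⟩ : ∃ e : ℕ, a₁ + e = m' := ⟨(m' - a₁).toNat, by omega⟩
  obtain ⟨s, hs, hpl⟩ := P.exists_forms he v₁
  have hs0 : s ≠ 0 := P.forms_ne_zero hs hv₁
  have hprim := primitive_of s hs0 (by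
    intro i j p t hij ht
    by_contra hi
    have hj : (a₁ + i) + j = m' := by omega
    have hp0 : p ≠ 0 := by
      rintro rfl
      apply hs0
      funext a
      exact Subtype.ext (by rw [ht]; simp)
    have hp0' : p.1 ≠ 0 := fun h => hp0 (Subtype.ext h)
    obtain ⟨v, hv⟩ := P.exists_map hj t (by
      intro a b c
      have h1 := hpl a b c
      simp only [ht] at h1
      apply mul_left_cancel₀ hp0'
      rw [mul_zero, ← h1]
      ring)
    have hvv : mulMap p (rfl : a₁ + (i : ℤ) = a₁ + i) ≫ v = v₁ := by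
      rw [← sub_eq_zero]
      apply P.hom_eq_zero
      intro a
      rw [Preadditive.sub_comp, Category.assoc, hv, hs, sub_eq_zero]
      exact mulMap_comp p (t a) (s a) (ht a) _ _ _
    have hv0 : v ≠ 0 := by
      rintro rfl
      rw [comp_zero] at hvv
      exact hv₁ hvv.symm
    have hvψ : v ≫ ψ = 0 := by
      by_contra hne
      apply P.mulMap_comp_ne_zero p hp0 (rfl : a₁ + (i : ℤ) = a₁ + i) (v ≫ ψ) hne
      rw [← Category.assoc, hvv, h₁]
    have := hmax _ v hv0 hvψ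
    omega)
  have hmD := P.hm
  choose F hF hFpl using fun a => P.exists_forms P.hm (P.σ a ≫ ψ)
  -- `F a b` is the form of `σ a ≫ ψ ≫ w b`
  have hrel : ∀ a c b, (s a).1 * (F c b).1 = (s c).1 * (F a b).1 := by
    intro a c b
    obtain ⟨b₁, hb₁⟩ : ∃ b₁ : ℤ, b₁ + e = m := ⟨m - e, by ring⟩
    have h1 := P.comp_σ hs hpl a c hb₁ (by omega : b₁ + D = a₁)
    refine al_eq_of_mulMap_eq (m := b₁) fun U t x hx => ?_
    have h2 := congrArg (fun g : OO n k b₁ ⟶ E => val (appS (g ≫ ψ ≫ P.w b) U t) x hx) h1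
    have h3 : val (appS ((mulMap (P.q a c) (by omega : b₁ + D = a₁) ≫ v₁) ≫ ψ ≫ P.w b) U t) x hx = 0 := by
      rw [Category.assoc, ← Category.assoc v₁, h₁, zero_comp, comp_zero]
      rfl
    have h4 : ∀ (p : gr n k e) (d : ι), val (appS ((mulMap p hb₁ ≫ P.σ d) ≫ ψ ≫ P.w b) U t) x hx =
        al x (F d b).1 * (al x p.1 * val t x hx) := by
      intro p d
      have h5 : (mulMap p hb₁ ≫ P.σ d) ≫ ψ ≫ P.w b = mulMap p hb₁ ≫ mulMap (F d b) P.hm := by
        rw [← hF d b]; simp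
      rw [h5]; rfl
    have h6 : val (appS ((mulMap (s a) hb₁ ≫ P.σ c - mulMap (s c) hb₁ ≫ P.σ a) ≫ ψ ≫ P.w b) U t) x hx =
        al x (F c b).1 * (al x (s a).1 * val t x hx) - al x (F a b).1 * (al x (s c).1 * val t x hx) := by
      rw [← h4, ← h4, Preadditive.sub_comp]
      rfl
    have h7 := h6.symm.trans (h2.trans h3)
    rw [map_mul, map_mul]
    linear_combination h7
  obtain ⟨a0, ha0⟩ : ∃ a, s a ≠ 0 := by
    by_contra hcon
    push Not at hcon
    exact hs0 (_root_.funext hcon)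
  have ha0' : (s a0).1 ≠ 0 := fun h => ha0 (Subtype.ext h)
  have hdvd : ∀ b, (s a0).1 ∣ (F a0 b).1 := by
    intro b
    apply hprim
    intro c
    exact ⟨(F c b).1, (hrel a0 c b).symm⟩
  choose y hy using hdvd
  have hFy : ∀ a b, (F a b).1 = (s a).1 * y b := by
    intro a b
    apply mul_left_cancel₀ ha0'
    rw [hrel a0 a b, hy b]
    ring
  obtain ⟨a1, ha1⟩ : ∃ a, P.σ a ≫ ψ ≠ 0 := by
    by_contra hcon
    push Not at hcon
    exact hψ (P.epi _ _ hcon)
  have hF1 := P.forms_ne_zero (hF a1) ha1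
  obtain ⟨b1, hb1⟩ : ∃ b, F a1 b ≠ 0 := by
    by_contra hcon
    push Not at hcon
    exact hF1 (_root_.funext hcon)
  have hyb1 : y b1 ≠ 0 := by
    intro h0
    apply hb1
    apply Subtype.ext
    rw [hFy, h0, mul_zero]; rfl
  have hdeg : ∀ b, y b ≠ 0 → ∃ j, e + j = D ∧ y b ∈ gr n k j := by
    intro b hb
    obtain ⟨i, j, hij, hi, hj⟩ := exists_form_factor (d := D) (a := (s a0).1) (b := y b)
      (by rw [← hFy]; exact (F a0 b).2) (mul_ne_zero ha0' hb)
    have h1 : (s a0).1.IsHomogeneous e := (s a0).2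
    have h2 : (s a0).1.IsHomogeneous i := hi
    have : e = i := by rw [← h1.totalDegree ha0', ← h2.totalDegree ha0']
    exact ⟨j, by omega, hj⟩
  obtain ⟨j, hj, -⟩ := hdeg b1 hyb1
  have hyj : ∀ b, y b ∈ gr n k j := by
    intro b
    by_cases hb : y b = 0
    · rw [hb]; exact Submodule.zero_mem _
    · obtain ⟨j', hj', hm⟩ := hdeg b hb
      have : j = j' := by omega
      rw [this]; exact hm
  obtain ⟨a₂, ha₂⟩ : ∃ a₂ : ℤ, a₂ + j = m' := ⟨m' - j, by ring⟩
  obtain ⟨v₂, hv₂⟩ := P.exists_map ha₂ (fun b => (⟨y b, hyj b⟩ : gr n k j)) (by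
    intro a b c
    have h1 := hFpl a0 a b c
    simp only [hFy] at h1
    apply mul_left_cancel₀ ha0'
    rw [mul_zero, ← h1]
    ring)
  refine ⟨a₁, a₂, v₁, v₂, hv₁, P.ne_zero_of_forms hv₂ ?_, by omega⟩
  intro h0
  exact hyb1 (congrArg Subtype.val (congrFun h0 b1))

end Main

end K698.Homoth
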