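import Groth.Agent.VBPn.K698.PlPull
import Groth.Agent.VBPn.K697.Lin
import Groth.Agent.Ega2.H270.ProjCover

/-!
# Restriction to the general hyperplane
-/

set_option autoImplicit false
universe u

open CategoryTheory CategoryTheory.Limits AlgebraicGeometry Opposite TopologicalSpace TopCat
open Groth.Agent Groth.Agent.Sga67.Sec Groth.Agent.Sga67.LocBasis K699.TwHom
open Groth.Agent.VarietyB.TwistMul K698.Val K698.ThmA K698.Pl

namespace K698.Restr

variable {k : Type u} [Field k] {l : ℕ}

/-- The linear map of the hyperplane `T_0 = ∑ z_i T_i`. -/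
def Az (z : Fin (l + 1) → k) : (Fin (l + 1 + 1) → k) →ₗ[k] (Fin (l + 1) → k) where
  toFun v := v 0 • z + Fin.tail v
  map_add' v w := by
    funext i
    simp only [Pi.add_apply, Pi.smul_apply, smul_eq_mul, Fin.tail]
    ring
  map_smul' c v := by
    funext i
    simp only [Pi.add_apply, Pi.smul_apply, smul_eq_mul, Fin.tail, RingHom.id_apply]
    ring

theorem Az_surj (z : Fin (l + 1) → k) : Function.Surjective (Az z) := fun w =>
  ⟨Fin.cons 0 w, by funext i; simp [Az]⟩

theorem subst_Az (z : Fin (l + 1) → k) : K697.Lin.subst (Az z) = psi z := by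
  apply MvPolynomial.algHom_ext
  intro i
  rw [K697.Lin.subst_X, psi, MvPolynomial.aeval_X]
  refine Fin.cases ?_ (fun j => ?_) i
  · rw [Fin.cons_zero]
    have : Az z (Pi.single 0 1) = z := by
      funext j
      simp [Az, Fin.tail]
    rw [this]
    rfl
  · rw [Fin.cons_succ]
    have : Az z (Pi.single j.succ 1) = Pi.single j 1 := by
      funext i
      simp [Az, Fin.tail, Pi.single_apply]
    rw [this, K697.Lin.lf_single]

/-- The hyperplane `T_0 = ∑ z_i T_i`. -/
noncomputable def iz (z : Fin (l + 1) → k) : PP l k ⟶ PP (l + 1) k :=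
  Proj.map (K697.Lin.gr (Az z)) (Sga5.ProjSurj.irrelevant_le_map (K697.Lin.degSurj (Az_surj z)))

/-- Forms without common zeros generate an ideal containing a power of each variable. -/
theorem exists_pow_mem {n : ℕ} {ι : Type} {D : ℕ} (q : ι → ι → gr n k D)
    (nz : ∀ x : Pt n k, ∃ a b, (q a b).1 ∉ x.asHomogeneousIdeal) (i : Fin (n + 1)) :
    ∃ M : ℕ, (MvPolynomial.X i : MvPolynomial (Fin (n + 1)) k) ^ M ∈
      Ideal.span (Set.range fun p : ι × ι => (q p.1 p.2).1) := by
  have h1 := (Ega2.H270.ProjCover.iSup_basicOpen_eq_top_iff (gr n k)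
    (fun p : ι × ι => (q p.1 p.2).1) (fun p => ⟨D, (q p.1 p.2).2⟩)).mp (by
      rw [eq_top_iff]
      intro x _
      obtain ⟨a, b, h⟩ := nz x
      exact TopologicalSpace.Opens.mem_iSup.mpr ⟨(a, b), h⟩)
  exact h1 (HomogeneousIdeal.mem_irrelevant_of_mem _ one_pos (X_mem i))

/-- **Restriction theorem** (Plücker form): if `i_z^* E` has a nonzero morphism from `O(b)` for every `z`, so
has `E`, provided the degree is negative enough. -/
theorem exists_hom [CharZero k] (hl : 1 ≤ l) {E : (PP (l + 1) k).Modules} {ι : Type} [Fintype ι]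
    {m m' : ℤ} {D : ℕ} (P : Pres E ι m m' D) {b : ℤ} {e : ℕ} (hb : b + e = m')
    (hDe : 2 * e + 2 ≤ D ∨ (2 ≤ l ∧ 2 * e + 1 ≤ D))
    (h : ∀ z : Fin (l + 1) → k, ∃ v : OO l k b ⟶ (Scheme.Modules.pullback (iz z)).obj E, v ≠ 0) :
    ∃ v : OO (l + 1) k b ⟶ E, v ≠ 0 := by
  obtain ⟨s, hs0, hse, hs⟩ := thmA (k := k) (n := l + 1) (by omega) (D := D) (e := e)
    (fun a b => (P.q a b).1) (fun a b => (P.q a b).2) (exists_pow_mem P.q P.nz)
    (by rcases hDe with h1 | h1
        · exact Or.inl h1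
        · exact Or.inr ⟨by omega, h1.2⟩) (by
      intro z
      obtain ⟨v, hv⟩ := h z
      let Pz : Pres ((Scheme.Modules.pullback (iz z)).obj E) ι m m' D :=
        P.pull (K697.Lin.gr (Az z)) (Sga5.ProjSurj.irrelevant_le_map (K697.Lin.degSurj (Az_surj z)))
          (Ega3B.ProjFrame.coveredByOne (l + 1) k)
      obtain ⟨f, hf, hpl⟩ := Pz.exists_forms hb v
      refine ⟨fun a => (f a).1, ?_, fun a => (f a).2, ?_⟩
      · intro h0
        apply Pz.forms_ne_zero hf hv
        funext a
        exact Subtype.ext (congrFun h0 a)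
      · rw [← subst_Az]
        exact hpl)
  obtain ⟨v, hv⟩ := P.exists_map hb (fun a => ⟨s a, hse a⟩) hs
  refine ⟨v, P.ne_zero_of_forms hv ?_⟩
  intro h0
  apply hs0
  funext a
  exact congrArg Subtype.val (congrFun h0 a)

end K698.Restr
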