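import Groth.Agent.VBPn.K698.RestrB

/-!
# Degrees of split rank-two bundles
-/

set_option autoImplicit false
universe u

open CategoryTheory CategoryTheory.Limits AlgebraicGeometry Opposite TopologicalSpace TopCat
open Groth.Agent Groth.Agent.Sga67.Sec Groth.Agent.Sga67.LocBasis K699.TwHom
open Groth.Agent.VarietyB.TwistMul K698.Val K698.ThmA K698.Wedge K698.Pl

namespace K698.Split

variable {n : ℕ} {k : Type u} [Field k]

theorem isGen_pw_inj (l : gr n k 1) (d : ℤ) {U : (PP n k).Opens}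
    (hU : ∀ x ∈ U, l.1 ∉ (x : Pt n k).asHomogeneousIdeal) (r : Γ(PP n k, U)) (h : r • pw l d U hU = 0) :
    r = 0 :=
  (Ega2.TwistBasic.bijective_smul_fracSec (𝒜 := gr n k) d (Ega2.TwistInv.powOne l d.toNat)
    (Ega2.TwistInv.powOne l (-d).toNat) (by omega) U (fun x hx => Ega2.TwistInv.powOne_notMem (hU x hx) _)
    (fun x hx => Ega2.TwistInv.powOne_notMem (hU x hx) _)).1 (a₁ := r) (a₂ := 0) (by
      refine Eq.trans h ?_
      exact (zero_smul Γ(PP n k, U) (pw l d U hU)).symm)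

theorem res_pw (l : gr n k 1) (d : ℤ) {U V : (PP n k).Opens} (h : V ≤ U)
    (hU : ∀ x ∈ U, l.1 ∉ (x : Pt n k).asHomogeneousIdeal) :
    res (OO n k d) h (pw l d U hU) = pw l d V (fun x hx => hU x (h hx)) := rfl

/-- The local basis of `O(a) ⊕ O(b)`. -/
theorem isLocBasis_two {E : (PP n k).Modules} {a b : ℤ} (v₁ : OO n k a ⟶ E) (v₂ : OO n k b ⟶ E)
    (p₁ : E ⟶ OO n k a) (p₂ : E ⟶ OO n k b) (h₁₁ : v₁ ≫ p₁ = 𝟙 _) (h₁₂ : v₁ ≫ p₂ = 0) (h₂₁ : v₂ ≫ p₁ = 0)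
    (h₂₂ : v₂ ≫ p₂ = 𝟙 _) (htot : p₁ ≫ v₁ + p₂ ≫ v₂ = 𝟙 E) (l : gr n k 1) {U : (PP n k).Opens}
    (hU : ∀ x ∈ U, l.1 ∉ (x : Pt n k).asHomogeneousIdeal) :
    IsLocBasis (M := E) ![appS v₁ U (pw l a U hU), appS v₂ U (pw l b U hU)] := by
  intro V h
  have hV : ∀ x ∈ V, l.1 ∉ (x : Pt n k).asHomogeneousIdeal := fun x hx => hU x (h hx)
  have hcomb : ∀ c : Fin 2 → Γ(PP n k, V),
      comb (M := E) ![appS v₁ U (pw l a U hU), appS v₂ U (pw l b U hU)] h c =
      c 0 • appS v₁ V (pw l a V hV) + c 1 • appS v₂ V (pw l b V hV) := by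
    intro c
    rw [comb_apply, Fin.sum_univ_two]
    change c 0 • res E h (appS v₁ U (pw l a U hU)) + c 1 • res E h (appS v₂ U (pw l b U hU)) = _
    rw [← appS_res, ← appS_res, res_pw, res_pw]
  constructor
  · rw [injective_iff_map_eq_zero]
    intro c hc
    rw [hcomb] at hc
    have e1 := congrArg (appS p₁ V) hc
    have e2 := congrArg (appS p₂ V) hc
    rw [map_add, map_smul, map_smul, ← appS_comp, ← appS_comp, h₁₁, h₂₁, appS_zero, smul_zero, add_zero,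
      map_zero, appS_id] at e1
    rw [map_add, map_smul, map_smul, ← appS_comp, ← appS_comp, h₁₂, h₂₂, appS_zero, smul_zero, zero_add,
      map_zero, appS_id] at e2
    funext i
    fin_cases i
    · exact isGen_pw_inj l a hV _ e1
    · exact isGen_pw_inj l b hV _ e2
  · intro s
    obtain ⟨r₁, hr₁⟩ := isGen_pw l a hV (appS p₁ V s)
    obtain ⟨r₂, hr₂⟩ := isGen_pw l b hV (appS p₂ V s)
    refine ⟨![r₁, r₂], ?_⟩
    rw [hcomb]
    change r₁ • appS v₁ V (pw l a V hV) + r₂ • appS v₂ V (pw l b V hV) = s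
    rw [← map_smul, ← map_smul, hr₁, hr₂, ← appS_comp, ← appS_comp, ← appS_add, htot, appS_id]

/-- The degree of `O(a) ⊕ O(b)` is `a + b`. -/
theorem add_eq (hn : 1 ≤ n) {E : (PP n k).Modules} {c : ℤ} {f : CohB1.tensorMod E E ⟶ OO n k c}
    (hf : IsWedge f) {a b : ℤ} (v₁ : OO n k a ⟶ E) (v₂ : OO n k b ⟶ E)
    (p₁ : E ⟶ OO n k a) (p₂ : E ⟶ OO n k b) (h₁₁ : v₁ ≫ p₁ = 𝟙 _) (h₁₂ : v₁ ≫ p₂ = 0) (h₂₁ : v₂ ≫ p₁ = 0)
    (h₂₂ : v₂ ≫ p₂ = 𝟙 _) (htot : p₁ ≫ v₁ + p₂ ≫ v₂ = 𝟙 E) : a + b = c := by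
  obtain ⟨g, hg⟩ := exists_wdg f (show a + (c - a) = c by ring) v₁
  have hiso : IsIso (v₂ ≫ g) := by
    refine isIso_of_bijective _ fun x U hx => ?_
    obtain ⟨l, W, hxW, hW⟩ := exists_chart x
    have hV : ∀ y ∈ U ⊓ W, l.1 ∉ (y : Pt n k).asHomogeneousIdeal := fun y hy => hW y hy.2
    refine ⟨U ⊓ W, inf_le_left, ⟨hx, hxW⟩, ?_⟩
    have hb := hf.basis (U ⊓ W) _ (isLocBasis_two v₁ v₂ p₁ p₂ h₁₁ h₁₂ h₂₁ h₂₂ htot l hV)
    change IsLocBasis (M := OO n k c) (fun _ : Fin 1 =>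
      pairS f (U ⊓ W) (appS v₁ (U ⊓ W) (pw l a (U ⊓ W) hV)) (appS v₂ (U ⊓ W) (pw l b (U ⊓ W) hV))) at hb
    have hval : ∀ (y : Pt n k) (hy : y ∈ U ⊓ W),
        val (pairS f (U ⊓ W) (appS v₁ (U ⊓ W) (pw l a (U ⊓ W) hV)) (appS v₂ (U ⊓ W) (pw l b (U ⊓ W) hV))) y hy =
        val (pw l a (U ⊓ W) hV) y hy * val (appS (v₂ ≫ g) (U ⊓ W) (pw l b (U ⊓ W) hV)) y hy := by
      intro y hy
      rw [hg, appS_comp]
    have hu : ∀ (y : Pt n k) (hy : y ∈ U ⊓ W),
        IsUnit (val (appS (v₂ ≫ g) (U ⊓ W) (pw l b (U ⊓ W) hV)) y hy) := by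
      intro y hy
      have h1 := isUnit_val_of_basis hb y hy
      rw [hval] at h1
      exact isUnit_of_mul_isUnit_right h1
    constructor
    · rw [injective_iff_map_eq_zero]
      intro s hs
      obtain ⟨r, hr⟩ := isGen_pw l b hV s
      rw [← hr, map_smul] at hs
      rw [← hr]
      apply val_ext
      intro y hy
      have h1 := congrArg (fun t => val t y hy) hs
      have h2 : valO r y hy * val (appS (v₂ ≫ g) (U ⊓ W) (pw l b (U ⊓ W) hV)) y hy = 0 :=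
        (val_smul _ _ _ _).symm.trans h1
      rw [(hu y hy).mul_left_eq_zero] at h2
      rw [val_smul, h2, zero_mul, val_zero]
    · intro s
      obtain ⟨r, hr⟩ := (hb (U ⊓ W) le_rfl).2 (mulL (show a + (c - a) = c by ring) (U ⊓ W) (pw l a (U ⊓ W) hV) s)
      rw [comb_apply, Fin.sum_univ_one, res_self] at hr
      refine ⟨r 0 • pw l b (U ⊓ W) hV, ?_⟩
      apply val_ext
      intro y hy
      have h1 := congrArg (fun t => val t y hy) hr
      have h2 : valO (r 0) y hy * (val (pw l a (U ⊓ W) hV) y hy *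
          val (appS (v₂ ≫ g) (U ⊓ W) (pw l b (U ⊓ W) hV)) y hy) = val (pw l a (U ⊓ W) hV) y hy * val s y hy := by
        rw [← hval, ← val_smul, ← val_mulL (show a + (c - a) = c by ring)]
        exact h1
      rw [map_smul, val_smul]
      apply (isUnit_val_pw l a hV y hy).mul_left_cancel
      rw [← h2]
      ring
  have hne : ∀ {d : ℤ}, (𝟙 (OO n k d) : OO n k d ⟶ OO n k d) ≠ 0 := by
    intro d h0
    have h1 := mulMap_ne_zero (n := n) (k := k) (m := d - 1) (m' := d) (i := 1) (by push_cast; ring)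
      (a := ⟨_, X_mem 0⟩) (by
        intro h
        exact MvPolynomial.X_ne_zero (R := k) (0 : Fin (n + 1)) (congrArg Subtype.val h))
    apply h1
    rw [← Category.comp_id (mulMap _ _), h0, comp_zero]
  have hle : b ≤ c - a := by
    by_contra hlt
    push Not at hlt
    have h0 := hom_eq_zero_of_lt hn hlt (v₂ ≫ g)
    have h1 := congrArg (fun t => t ≫ inv (v₂ ≫ g)) h0
    exact hne ((IsIso.hom_inv_id (v₂ ≫ g)).symm.trans (h1.trans zero_comp))
  have hge : c - a ≤ b := by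
    by_contra hlt
    push Not at hlt
    have h0 := hom_eq_zero_of_lt hn hlt (inv (v₂ ≫ g))
    have h1 := IsIso.hom_inv_id (v₂ ≫ g)
    rw [h0, comp_zero] at h1
    exact hne h1.symm
  omega

end K698.Split
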